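import Mathlib

set_option autoImplicit false

namespace Cfsg.Agent.Lib.Helper46

open QuaternionGroup

/-- the generators-and-relations package of a subgroup isomorphic to a quaternion group -/
theorem quat_package {G : Type*} [Group G] (P : Subgroup G) (n : ℕ) [NeZero n]
    (e : P ≃* QuaternionGroup n) :
    ∃ A W : G, A ∈ P ∧ W ∈ P ∧ (∀ s ∈ P, ∃ j : ℕ, s = A ^ j ∨ s = A ^ j * W) ∧
      W * A * W⁻¹ = A⁻¹ ∧ orderOf A = 2 * n ∧ (∀ j : ℕ, orderOf (A ^ j * W) = 4) ∧
      Nat.card P = 4 * n := by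
  have hne : NeZero (2 * n) := ⟨by have := NeZero.ne n; omega⟩
  refine ⟨(e.symm (a 1) : P), (e.symm (xa 0) : P), (e.symm (a 1)).2, (e.symm (xa 0)).2,
    ?_, ?_, ?_, ?_, ?_⟩
  · intro s hs
    rcases h : e ⟨s, hs⟩ with i | i
    · refine ⟨i.val, Or.inl ?_⟩
      have h1 : (⟨s, hs⟩ : P) = (e.symm (a 1)) ^ i.val := by
        rw [← map_pow, a_one_pow, ZMod.natCast_zmod_val, ← h, MulEquiv.symm_apply_apply]
      have := congrArg Subtype.val h1
      simpa using this
    · refine ⟨(-i).val, Or.inr ?_⟩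
      have h1 : (⟨s, hs⟩ : P) = (e.symm (a 1)) ^ (-i).val * e.symm (xa 0) := by
        rw [← map_pow, ← map_mul, a_one_pow, ZMod.natCast_zmod_val, a_mul_xa, zero_sub, neg_neg,
          ← h, MulEquiv.symm_apply_apply]
      have := congrArg Subtype.val h1
      simpa using this
  · have h1 : e.symm (xa 0) * e.symm (a 1) * (e.symm (xa 0))⁻¹ = (e.symm (a 1))⁻¹ := by
      rw [← map_inv, ← map_inv, ← map_mul, ← map_mul]
      congr 1
      rw [mul_inv_eq_iff_eq_mul, eq_inv_mul_iff_mul_eq]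
      simp
    have := congrArg Subtype.val h1
    simpa using this
  · rw [Subgroup.orderOf_coe, MulEquiv.orderOf_eq, orderOf_a_one]
  · intro j
    have h1 : ((e.symm (a 1) : P) : G) ^ j * ((e.symm (xa 0) : P) : G) =
        ((e.symm (a 1 ^ j * xa 0) : P) : G) := by
      rw [map_mul, map_pow]; simp
    rw [h1, Subgroup.orderOf_coe, MulEquiv.orderOf_eq, a_one_pow, a_mul_xa, orderOf_xa]
  · rw [Nat.card_congr e.toEquiv, Nat.card_eq_fintype_card, QuaternionGroup.card]

end Cfsg.Agent.Lib.Helper46
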