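import Cfsg.Agent.Lib.Helper46.SL2CharVals

set_option autoImplicit false
set_option linter.unusedSimpArgs false
set_option linter.unusedSectionVars false

namespace Cfsg.Agent.Lib.Helper46

open Matrix Cfsg Cfsg.Agent.Lib.Helper19
open scoped ComplexConjugate

section sl2

variable {F : Type*} [Field F] [Fintype F] [DecidableEq F]
variable {X₀ : SpecialLinearGroup (Fin 2) F}

theorem negOne_mem_borel : (negOne : SpecialLinearGroup (Fin 2) F) ∈ Helper44.borelSL F := by
  rw [Helper44.mem_borelSL]; simp [negOne]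

theorem RS_negOne_mul (α : MulChar F ℂ) (g : SpecialLinearGroup (Fin 2) F) :
    RS α (negOne * g) = α (-1) * RS α g := by
  apply indFun_central_mul _ _ negOne negOne_mem_center negOne_mem_borel
  intro b
  rw [map_mul, Helper44.borelHomSL_apply]
  simp [negOne]

theorem II_negOne_mul (h : NS X₀) (θ : Subgroup.zpowers X₀ →* ℂˣ)
    (g : SpecialLinearGroup (Fin 2) F) :
    II X₀ θ (negOne * g) = ((θ (zz h) : ℂˣ) : ℂ) * II X₀ θ g := by
  apply indFun_central_mul _ _ negOne negOne_mem_center (h.center_le _ negOne_mem_center)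
  intro b
  rw [map_mul, Units.val_mul]
  rfl

theorem PI_negOne_mul (h : NS X₀) {α : MulChar F ℂ} {θ : Subgroup.zpowers X₀ →* ℂˣ}
    (hc : Compat h α θ) (g : SpecialLinearGroup (Fin 2) F) :
    PI X₀ α θ (negOne * g) = ((θ (zz h) : ℂˣ) : ℂ) * PI X₀ α θ g := by
  have hc' : α (-1) = ((θ (zz h) : ℂˣ) : ℂ) := hc
  simp only [PI]
  rw [RS_negOne_mul, RS_negOne_mul, II_negOne_mul h, hc', MulChar.one_apply (by simp)]
  ring

theorem PI_central_mul (h : NS X₀) {α : MulChar F ℂ} {θ : Subgroup.zpowers X₀ →* ℂˣ}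
    (hc : Compat h α θ) (c : Subgroup.zpowers X₀)
    (hcc : (c : SpecialLinearGroup (Fin 2) F) ∈ Subgroup.center (SpecialLinearGroup (Fin 2) F))
    (g : SpecialLinearGroup (Fin 2) F) :
    PI X₀ α θ ((c : SpecialLinearGroup (Fin 2) F) * g) = ((θ c : ℂˣ) : ℂ) * PI X₀ α θ g := by
  rcases eq_one_or_negOne_of_mem_center _ hcc with h1 | h1
  · have : c = 1 := Subtype.ext h1
    subst this
    simp
  · have : c = zz h := Subtype.ext h1
    subst this
    exact PI_negOne_mul h hc g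

theorem hom_inv_ne_of_sq {θ : Subgroup.zpowers X₀ →* ℂˣ} (hθ : ∃ c, θ c ^ 2 ≠ 1) : θ⁻¹ ≠ θ := by
  obtain ⟨c, hc⟩ := hθ
  intro h
  apply hc
  have := DFunLike.congr_fun h c
  rw [MonoidHom.inv_apply] at this
  rw [pow_two]
  nth_rewrite 1 [← this]
  exact inv_mul_cancel _

theorem exists_sq_of_hom_inv_ne {θ : Subgroup.zpowers X₀ →* ℂˣ} (hθ : θ⁻¹ ≠ θ) :
    ∃ c, θ c ^ 2 ≠ 1 := by
  by_contra hcon
  push Not at hcon
  apply hθ
  apply MonoidHom.ext
  intro c
  rw [MonoidHom.inv_apply, inv_eq_iff_mul_eq_one, ← pow_two]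
  exact hcon c

end sl2

end Cfsg.Agent.Lib.Helper46
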