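import Cfsg.Agent.Lib.Helper46.SL2CharInd

set_option autoImplicit false
set_option linter.unusedSimpArgs false
set_option linter.unusedSectionVars false

namespace Cfsg.Agent.Lib.Helper46

open Matrix Cfsg
open scoped ComplexConjugate

section alpha

variable {F : Type*} [Field F] [Fintype F] [DecidableEq F]

theorem ringChar_ne_two (h2 : (2 : F) ≠ 0) : ringChar F ≠ 2 := by
  intro h
  apply h2
  have := ringChar.Nat.cast_ringChar (R := F)
  rw [h] at this
  exact_mod_cast this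

/-- the quadratic character with complex values -/
noncomputable def alpha0 (F : Type*) [Field F] [Fintype F] [DecidableEq F] : MulChar F ℂ :=
  (quadraticChar F).ringHomComp (Int.castRingHom ℂ)

theorem alpha0_of_isSquare {a : F} (ha : a ≠ 0) (h : IsSquare a) : alpha0 F a = 1 := by
  rw [alpha0, MulChar.ringHomComp_apply, (quadraticChar_one_iff_isSquare ha).2 h]; simp

theorem alpha0_of_not_isSquare {a : F} (h : ¬ IsSquare a) : alpha0 F a = -1 := by
  rw [alpha0, MulChar.ringHomComp_apply, quadraticChar_neg_one_iff_not_isSquare.2 h]; simp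

theorem alpha0_inv : alpha0 F = (alpha0 F)⁻¹ :=
  ((quadraticChar_isQuadratic F).comp (Int.castRingHom ℂ)).inv.symm

theorem alpha0_ne_one (h2 : (2 : F) ≠ 0) : alpha0 F ≠ 1 := by
  obtain ⟨a, ha⟩ := FiniteField.exists_nonsquare (ringChar_ne_two h2)
  intro h
  have h1 := alpha0_of_not_isSquare ha
  have ha0 : a ≠ 0 := by
    rintro rfl
    exact ha IsSquare.zero
  rw [h, MulChar.one_apply (isUnit_iff_ne_zero.2 ha0)] at h1
  norm_num at h1

theorem mulChar_sq_of_eq_inv {α : MulChar F ℂ} (h : α = α⁻¹) (a : Fˣ) : α a * α a = 1 := by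
  have : α * α = 1 := by
    nth_rewrite 2 [h]
    exact mul_inv_cancel α
  rw [← MulChar.mul_apply, this, MulChar.one_apply_coe]

theorem eq_alpha0 {α : MulChar F ℂ} (h : α = α⁻¹) (h1 : α ≠ 1) : α = alpha0 F := by
  have hsq : ∀ a : Fˣ, IsSquare (a : F) → α a = 1 := by
    rintro a ⟨b, hb⟩
    have hb0 : b ≠ 0 := by
      rintro rfl
      simp at hb
    rw [hb, map_mul]
    exact mulChar_sq_of_eq_inv h (Units.mk0 b hb0)
  obtain ⟨a₁, ha₁⟩ := MulChar.ne_one_iff.1 h1
  have hns : ¬ IsSquare (a₁ : F) := fun hh => ha₁ (hsq a₁ hh)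
  have hm1 : α a₁ = -1 := by
    have := mulChar_sq_of_eq_inv h a₁
    have h4 : (α a₁) ^ 2 = 1 := by rw [pow_two]; exact this
    rcases sq_eq_one_iff.1 h4 with h3 | h3
    · exact absurd h3 ha₁
    · exact h3
  apply MulChar.ext
  intro a
  by_cases ha : IsSquare (a : F)
  · rw [hsq a ha, alpha0_of_isSquare a.ne_zero ha]
  · rw [alpha0_of_not_isSquare ha]
    have hprod : IsSquare ((a * a₁ : Fˣ) : F) := by
      rw [← quadraticChar_one_iff_isSquare (Units.ne_zero _), Units.val_mul, map_mul,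
        quadraticChar_neg_one_iff_not_isSquare.2 ha, quadraticChar_neg_one_iff_not_isSquare.2 hns]
      norm_num
    have := hsq _ hprod
    rw [Units.val_mul, map_mul, hm1] at this
    linear_combination -this

theorem alpha0_neg_one (hodd : Fintype.card F % 2 = 1) :
    alpha0 F (-1) = if Fintype.card F % 4 = 1 then 1 else -1 := by
  split_ifs with h
  · apply alpha0_of_isSquare (by simp)
    rw [FiniteField.isSquare_neg_one_iff]
    omega
  · apply alpha0_of_not_isSquare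
    rw [FiniteField.isSquare_neg_one_iff]
    omega

end alpha

section theta

variable {F : Type*} [Field F] [Fintype F]
variable {X₀ : SpecialLinearGroup (Fin 2) F}

/-- the generator as an element of the torus -/
def gen (X₀ : SpecialLinearGroup (Fin 2) F) : Subgroup.zpowers X₀ := ⟨X₀, Subgroup.mem_zpowers X₀⟩

theorem exists_zpow_gen (t : Subgroup.zpowers X₀) : ∃ k : ℤ, t = gen X₀ ^ k := by
  obtain ⟨t, ht⟩ := t
  obtain ⟨k, rfl⟩ := Subgroup.mem_zpowers_iff.1 ht
  exact ⟨k, Subtype.ext rfl⟩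

theorem hom_ext_gen {θ θ' : Subgroup.zpowers X₀ →* ℂˣ} (h : θ (gen X₀) = θ' (gen X₀)) : θ = θ' := by
  apply MonoidHom.ext
  intro t
  obtain ⟨k, rfl⟩ := exists_zpow_gen t
  rw [map_zpow, map_zpow, h]

theorem units_sq_eq_one {u : ℂˣ} (h : u * u = 1) : u = 1 ∨ u = -1 := by
  have h1 : (u : ℂ) ^ 2 = 1 := by
    rw [pow_two, ← Units.val_mul, h, Units.val_one]
  rcases sq_eq_one_iff.1 h1 with h2 | h2
  · left; exact Units.ext h2
  · right; exact Units.ext (by simpa using h2)

theorem exists_theta0 (h : NS X₀) (hodd : Fintype.card F % 2 = 1) :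
    ∃ θ₀ : Subgroup.zpowers X₀ →* ℂˣ, θ₀ (gen X₀) = -1 := by
  have := finite_SL2 (F := F)
  have hfin := finite_hom h.comm'
  have hcard := card_hom h.comm'
  have hdvd : 2 ∣ Nat.card (Subgroup.zpowers X₀ →* ℂˣ) := by
    rw [hcard, h.hcard]; omega
  obtain ⟨θ₀, hθ₀⟩ := exists_prime_orderOf_dvd_card' 2 hdvd
  refine ⟨θ₀, ?_⟩
  have h1 : θ₀ ^ 2 = 1 := by
    have := pow_orderOf_eq_one θ₀
    rwa [hθ₀] at this
  have h2 : θ₀ (gen X₀) * θ₀ (gen X₀) = 1 := by
    have := DFunLike.congr_fun h1 (gen X₀)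
    rwa [pow_two, MonoidHom.mul_apply, MonoidHom.one_apply] at this
  rcases units_sq_eq_one h2 with h3 | h3
  · exfalso
    have : θ₀ = 1 := hom_ext_gen (by rw [h3, MonoidHom.one_apply])
    rw [this, orderOf_one] at hθ₀
    omega
  · exact h3

theorem theta0_inv {θ₀ : Subgroup.zpowers X₀ →* ℂˣ} (hθ₀ : θ₀ (gen X₀) = -1) : θ₀⁻¹ = θ₀ := by
  apply hom_ext_gen
  rw [MonoidHom.inv_apply, hθ₀]
  simp

theorem theta0_ne_one {θ₀ : Subgroup.zpowers X₀ →* ℂˣ} (hθ₀ : θ₀ (gen X₀) = -1) : θ₀ ≠ 1 := by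
  intro h
  rw [h, MonoidHom.one_apply] at hθ₀
  have := congrArg (fun u : ℂˣ => (u : ℂ)) hθ₀
  norm_num at this

theorem eq_theta0 {θ₀ θ : Subgroup.zpowers X₀ →* ℂˣ} (hθ₀ : θ₀ (gen X₀) = -1) (hθ : θ⁻¹ = θ)
    (h1 : θ ≠ 1) : θ = θ₀ := by
  apply hom_ext_gen
  rw [hθ₀]
  have h2 : θ (gen X₀) * θ (gen X₀) = 1 := by
    have := DFunLike.congr_fun hθ (gen X₀)
    rw [MonoidHom.inv_apply] at this
    nth_rewrite 1 [← this]
    exact inv_mul_cancel _
  rcases units_sq_eq_one h2 with h3 | h3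
  · exfalso
    exact h1 (hom_ext_gen (by rw [h3, MonoidHom.one_apply]))
  · exact h3

/-- the central involution as an element of the torus -/
def zz (h : NS X₀) : Subgroup.zpowers X₀ := ⟨negOne, h.center_le _ negOne_mem_center⟩

theorem gen_pow_half (h : NS X₀) (hodd : Fintype.card F % 2 = 1) :
    gen X₀ ^ ((Fintype.card F + 1) / 2) = zz h := by
  have h2 := two_ne_zero_of_odd (F := F) hodd
  apply Subtype.ext
  change X₀ ^ ((Fintype.card F + 1) / 2) = negOne
  have h1 : X₀ ^ ((Fintype.card F + 1) / 2) * X₀ ^ ((Fintype.card F + 1) / 2) = 1 := by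
    rw [← pow_add]
    have : (Fintype.card F + 1) / 2 + (Fintype.card F + 1) / 2 = Fintype.card F + 1 := by omega
    rw [this]
    exact h.pow_eq_one X₀ (Subgroup.mem_zpowers X₀)
  rcases eq_one_or_negOne_of_mem_center _ (mem_center_of_sq_eq_one h2 _ h1) with h3 | h3
  · exfalso
    have ho : orderOf X₀ = Fintype.card F + 1 := by rw [← Nat.card_zpowers, h.hcard]
    have := orderOf_dvd_of_pow_eq_one h3
    rw [ho] at this
    have := Nat.le_of_dvd (by omega) this
    omega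
  · exact h3

theorem zz_ne_one (h : NS X₀) (hodd : Fintype.card F % 2 = 1) : zz h ≠ 1 := by
  intro hh
  exact one_ne_negOne (two_ne_zero_of_odd (F := F) hodd) (congrArg Subtype.val hh).symm

theorem zz_mul_self (h : NS X₀) : zz h * zz h = 1 :=
  Subtype.ext (sq_eq_one_of_mem_center _ negOne_mem_center)

theorem theta0_zz (h : NS X₀) (hodd : Fintype.card F % 2 = 1)
    {θ₀ : Subgroup.zpowers X₀ →* ℂˣ} (hθ₀ : θ₀ (gen X₀) = -1) :
    ((θ₀ (zz h) : ℂˣ) : ℂ) = if Fintype.card F % 4 = 1 then -1 else 1 := by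
  rw [← gen_pow_half h hodd, map_pow, hθ₀]
  split_ifs with h4
  · have : Odd ((Fintype.card F + 1) / 2) := by
      rw [Nat.odd_iff]; omega
    rw [this.neg_one_pow]; simp
  · have : Even ((Fintype.card F + 1) / 2) := by
      rw [Nat.even_iff]; omega
    rw [this.neg_one_pow]; simp

/-- `θ₀ t = 1` iff `t ^ ((q+1)/2) = 1`, and `θ₀ t = -1` otherwise -/
theorem theta0_cases (h : NS X₀) (hodd : Fintype.card F % 2 = 1)
    {θ₀ : Subgroup.zpowers X₀ →* ℂˣ} (hθ₀ : θ₀ (gen X₀) = -1) (t : Subgroup.zpowers X₀) :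
    (t ^ ((Fintype.card F + 1) / 2) = 1 ∧ θ₀ t = 1) ∨
      (t ^ ((Fintype.card F + 1) / 2) ≠ 1 ∧ θ₀ t = -1) := by
  obtain ⟨k, rfl⟩ := exists_zpow_gen t
  have e1 : (gen X₀ ^ k) ^ ((Fintype.card F + 1) / 2) = zz h ^ k := by
    rw [← gen_pow_half h hodd, ← zpow_natCast, ← zpow_natCast, ← _root_.zpow_mul,
      ← _root_.zpow_mul, mul_comm]
  rw [e1, map_zpow, hθ₀]
  rcases Int.even_or_odd k with hk | hk
  · left
    obtain ⟨j, rfl⟩ := hk
    constructor
    · rw [← two_mul, _root_.zpow_mul, zpow_two, zz_mul_self, _root_.one_zpow]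
    · rw [← two_mul, _root_.zpow_mul]; simp
  · right
    obtain ⟨j, rfl⟩ := hk
    constructor
    · rw [_root_.zpow_add, _root_.zpow_mul, zpow_two, zz_mul_self, _root_.one_zpow, one_mul, zpow_one]
      exact zz_ne_one h hodd
    · rw [_root_.zpow_add, _root_.zpow_mul]; simp

end theta

section al

variable {F : Type*} [Field F] [Fintype F] [DecidableEq F]
variable {X₀ : SpecialLinearGroup (Fin 2) F}

theorem exists_compat (h : NS X₀) (hodd : Fintype.card F % 2 = 1)
    (θ : Subgroup.zpowers X₀ →* ℂˣ) : ∃ α : MulChar F ℂ, Compat h α θ := by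
  have h2 := two_ne_zero_of_odd (F := F) hodd
  have hne : (-1 : F) ≠ 1 := by
    intro hh
    apply h2
    linear_combination -hh
  obtain ⟨α, hα⟩ := MulChar.exists_apply_ne_one_of_hasEnoughRootsOfUnity F ℂ hne
  have hα1 : α (-1) = -1 := by
    have h3 : α (-1) ^ 2 = 1 := by
      rw [pow_two, ← map_mul]; simp
    rcases sq_eq_one_iff.1 h3 with h4 | h4
    · exact absurd h4 hα
    · exact h4
  have h5 : θ (zz h) * θ (zz h) = 1 := by rw [← map_mul, zz_mul_self, map_one]
  rcases units_sq_eq_one h5 with h6 | h6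
  · refine ⟨1, ?_⟩
    rw [Compat]
    change _ = ((θ (zz h) : ℂˣ) : ℂ)
    rw [h6, MulChar.one_apply (by simp)]
    simp
  · refine ⟨α, ?_⟩
    rw [Compat]
    change _ = ((θ (zz h) : ℂˣ) : ℂ)
    rw [h6, hα1]
    simp

theorem exists_al (h : NS X₀) (hodd : Fintype.card F % 2 = 1) :
    ∃ al : (Subgroup.zpowers X₀ →* ℂˣ) → MulChar F ℂ, ∀ θ, Compat h (al θ) θ :=
  ⟨fun θ => (exists_compat h hodd θ).choose, fun θ => (exists_compat h hodd θ).choose_spec⟩

end al

end Cfsg.Agent.Lib.Helper46
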