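import Cfsg.Agent.Lib.Helper46.SL2CharIrr
import Cfsg.Agent.Lib.Helper46.SL2CharQuad

set_option autoImplicit false
set_option linter.unusedSimpArgs false
set_option linter.unusedSectionVars false

namespace Cfsg.Agent.Lib.Helper46

open Matrix Cfsg Cfsg.Agent.Lib.Helper19
open scoped ComplexConjugate

section aux

theorem sum_two_delta {ι : Type*} [Fintype ι] [DecidableEq ι] (i j : ι) (f : ι → ℂ) :
    ∑ k : ι, ((if i = k then (1 : ℂ) else 0) + (if j = k then 1 else 0)) * f k = f i + f j := by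
  simp only [add_mul, ite_mul, one_mul, zero_mul, Finset.sum_add_distrib, Finset.sum_ite_eq,
    Finset.mem_univ, if_true]

theorem sum_delta {ι : Type*} [Fintype ι] [DecidableEq ι] (i : ι) (c : ℂ) (f : ι → ℂ) :
    ∑ k : ι, (if k = i then c else 0) * f k = c * f i := by
  simp only [ite_mul, zero_mul, Finset.sum_ite_eq', Finset.mem_univ, if_true]

end aux

section sl2

variable {F : Type*} [Field F] [Fintype F] [DecidableEq F]
variable {X₀ : SpecialLinearGroup (Fin 2) F}

/-- the values of a class function determined by its "Fourier data" `Af`, `Bf` -/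
structure Vals (h : NS X₀) (χ : SpecialLinearGroup (Fin 2) F → ℂ) (Af : Fˣ → ℂ)
    (Bf : Subgroup.zpowers X₀ → ℂ) : Prop where
  deg : 2 * χ 1 = ((Fintype.card F : ℂ) + 1) * Af 1 + ((Fintype.card F : ℂ) - 1) * Bf 1
  degz : 2 * χ negOne =
    ((Fintype.card F : ℂ) + 1) * Af (-1) + ((Fintype.card F : ℂ) - 1) * Bf (zz h)
  split : ∀ a : Fˣ, ∑ x : F, χ (Helper44.triSL a x) = (Fintype.card F : ℂ) * Af a
  nonsplit : ∀ t : Subgroup.zpowers X₀, (t : SpecialLinearGroup (Fin 2) F) ∉
    Subgroup.center (SpecialLinearGroup (Fin 2) F) → χ t = - Bf t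

theorem vals_of_class (h : NS X₀) (hodd : Fintype.card F % 2 = 1)
    (f : SpecialLinearGroup (Fin 2) F → ℂ)
    (hf : IsClassFunction (SpecialLinearGroup (Fin 2) F) f)
    (al : (Subgroup.zpowers X₀ →* ℂˣ) → MulChar F ℂ) (hal : ∀ θ, Compat h (al θ) θ)
    [Fintype (Subgroup.zpowers X₀ →* ℂˣ)] :
    Vals h f (fun a => ∑ α : MulChar F ℂ, classInner f (RS α) * α a)
      (fun t => ∑ θ : Subgroup.zpowers X₀ →* ℂˣ,
        classInner f (PI X₀ (al θ) θ) * ((θ t : ℂˣ) : ℂ)) := by
  classical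
  have hq := Helper44.card_F_ne_zero (F := F)
  have hq2 := Helper44.card_F_sub_one_ne_zero (F := F)
  have hz1 : zz h ≠ 1 := zz_ne_one h hodd
  constructor
  · rw [fact_A f hf, fact_B h hodd f hf al hal, if_pos rfl, if_neg (fun hh => hz1 hh.symm), PP,
      triSL_one_zero]
    simp only [Subgroup.coe_one]
    field_simp
    ring
  · rw [fact_A f hf, fact_B h hodd f hf al hal, if_neg hz1,
      if_pos (show zz h = ⟨negOne, h.center_le _ negOne_mem_center⟩ from rfl), PP,
      triSL_negOne_zero]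
    change _ = _ + _ * (_ - f negOne)
    field_simp
    ring
  · intro a
    rw [fact_A f hf]
    field_simp
  · intro t ht
    rw [fact_B h hodd f hf al hal, if_neg, if_neg]
    · ring
    · intro hh
      apply ht
      rw [hh]
      exact negOne_mem_center
    · intro hh
      apply ht
      rw [hh]
      exact Subgroup.one_mem _

theorem irr_sq_negOne {χ : SpecialLinearGroup (Fin 2) F → ℂ}
    (hχ : IsIrrCharacter (SpecialLinearGroup (Fin 2) F) χ) : χ negOne ^ 2 = χ 1 ^ 2 := by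
  have h1 := Helper79.IsIrrCharacter.mul_central hχ negOne negOne_mem_center negOne
  rw [sq_eq_one_of_mem_center _ negOne_mem_center] at h1
  have h0 := Helper79.IsIrrCharacter.one_ne_zero hχ
  field_simp at h1
  linear_combination -h1

/-- MASTER THEOREM: classification of the irreducible characters of `SL₂(q)`, `q` odd -/
theorem master (hodd : Fintype.card F % 2 = 1) (h : NS X₀)
    {θ₀ : Subgroup.zpowers X₀ →* ℂˣ} (hθ₀ : θ₀ (gen X₀) = -1)
    (χ : SpecialLinearGroup (Fin 2) F → ℂ)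
    (hχ : IsIrrCharacter (SpecialLinearGroup (Fin 2) F) χ) :
    (χ = 1 ∧ Vals h χ (fun _ => 1) (fun _ => -1)) ∨
    (χ = St ∧ Vals h χ (fun _ => 1) (fun _ => 1)) ∨
    (∃ α₁ : MulChar F ℂ, α₁ ≠ α₁⁻¹ ∧ χ = RS α₁ ∧
      Vals h χ (fun a => α₁ a + α₁⁻¹ a) (fun _ => 0)) ∨
    (∃ (θ₁ : Subgroup.zpowers X₀ →* ℂˣ) (α₁ : MulChar F ℂ), θ₁⁻¹ ≠ θ₁ ∧ Compat h α₁ θ₁ ∧
      χ = PI X₀ α₁ θ₁ ∧
      Vals h χ (fun _ => 0) (fun t => ((θ₁ t : ℂˣ) : ℂ) + ((θ₁⁻¹ t : ℂˣ) : ℂ))) ∨
    Vals h χ (fun a => alpha0 F a) (fun _ => 0) ∨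
    Vals h χ (fun _ => 0) (fun t => ((θ₀ t : ℂˣ) : ℂ)) := by
  classical
  have h2 := two_ne_zero_of_odd (F := F) hodd
  have := finite_SL2 (F := F)
  obtain ⟨al, hal⟩ := exists_al h hodd
  have hfin := finite_hom h.comm'
  have : Fintype (Subgroup.zpowers X₀ →* ℂˣ) := Fintype.ofFinite _
  have hcf : IsClassFunction (SpecialLinearGroup (Fin 2) F) χ :=
    Helper20.isClassFunction_of_isCharacter (Helper20.isCharacter_of_isIrrCharacter hχ)
  have V := vals_of_class h hodd χ hcf al hal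
  have key : ∀ (Af : Fˣ → ℂ) (Bf : Subgroup.zpowers X₀ → ℂ),
      (∀ a : Fˣ, ∑ α : MulChar F ℂ, classInner χ (RS α) * α a = Af a) →
      (∀ t : Subgroup.zpowers X₀, ∑ θ : Subgroup.zpowers X₀ →* ℂˣ,
        classInner χ (PI X₀ (al θ) θ) * ((θ t : ℂˣ) : ℂ) = Bf t) → Vals h χ Af Bf := by
    intro Af Bf hA hB
    have e1 := funext hA
    have e2 := funext hB
    rw [e1, e2] at V
    exact V
  by_cases c1 : ∃ α₁ : MulChar F ℂ, α₁ ≠ α₁⁻¹ ∧ classInner χ (RS α₁) ≠ 0
  · obtain ⟨α₁, hα₁, hne⟩ := c1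
    have hχe : χ = RS α₁ := eq_of_inner_ne_zero hχ (RS_irr α₁ hα₁) hne
    right; right; left
    refine ⟨α₁, hα₁, hχe, key _ _ ?_ ?_⟩
    · intro a
      have e : ∀ α : MulChar F ℂ, (α₁ = α⁻¹) ↔ (α₁⁻¹ = α) := by
        intro α
        constructor
        · intro hh; rw [hh, inv_inv]
        · intro hh; rw [← hh, inv_inv]
      simp only [hχe, inner_RS_RS, e]
      exact sum_two_delta α₁ α₁⁻¹ (fun α => α a)
    · intro t
      simp only [hχe, inner_RS_PI h hodd (hal _), zero_mul, Finset.sum_const_zero]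
  by_cases c2 : ∃ θ₁ : Subgroup.zpowers X₀ →* ℂˣ, θ₁⁻¹ ≠ θ₁ ∧ classInner χ (PI X₀ (al θ₁) θ₁) ≠ 0
  · obtain ⟨θ₁, hθ₁, hne⟩ := c2
    have hχe : χ = PI X₀ (al θ₁) θ₁ := eq_of_inner_ne_zero hχ (PI_irr h hodd (hal θ₁) hθ₁) hne
    right; right; right; left
    refine ⟨θ₁, al θ₁, hθ₁, hal θ₁, hχe, key _ _ ?_ ?_⟩
    · intro a
      simp only [hχe, inner_PI_RS h hodd (hal _), zero_mul, Finset.sum_const_zero]
    · intro t
      simp only [hχe, inner_PI_PI h hodd (hal _) (hal θ₁)]
      exact sum_two_delta θ₁ θ₁⁻¹ (fun θ => ((θ t : ℂˣ) : ℂ))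
  by_cases c3 : χ = 1
  · left
    refine ⟨c3, key _ _ ?_ ?_⟩
    · intro a
      simp only [c3, inner_one_RS]
      rw [sum_delta]
      simp
    · intro t
      simp only [c3, inner_one_PI h hodd]
      rw [sum_delta]
      simp
  by_cases c4 : χ = St
  · right; left
    refine ⟨c4, key _ _ ?_ ?_⟩
    · intro a
      have e : ∀ α : MulChar F ℂ, classInner (St (F := F)) (RS α) = if α = 1 then 1 else 0 := by
        intro α
        rw [St, Helper20.classInner_sub_left, inner_RS_RS, inner_one_RS]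
        by_cases hα : α = 1
        · subst hα; simp
        · rw [if_neg (fun hh => hα hh.symm), if_neg, if_neg hα]
          · simp
          · intro hh
            apply hα
            rw [eq_comm, inv_eq_one] at hh
            exact hh
      simp only [c4, e]
      rw [sum_delta]
      simp
    · intro t
      have e : ∀ θ : Subgroup.zpowers X₀ →* ℂˣ,
          classInner (St (F := F)) (PI X₀ (al θ) θ) = if θ = 1 then 1 else 0 := by
        intro θ
        rw [St, Helper20.classInner_sub_left, inner_RS_PI h hodd (hal θ), inner_one_PI h hodd]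
        split_ifs <;> simp
      simp only [c4, e]
      rw [sum_delta]
      simp
  -- the remaining case
  right; right; right; right
  push Not at c1 c2
  have hRS1 : RS (1 : MulChar F ℂ) = St + 1 := by rw [St]; abel
  have ha0 : ∀ α : MulChar F ℂ, α ≠ alpha0 F → classInner χ (RS α) = 0 := by
    intro α hα
    by_cases hinv : α = α⁻¹
    · by_cases h1 : α = 1
      · rw [h1, hRS1, Helper20.classInner_add_right, Helper20.classInner_irr_ne hχ St_irr c4,
          Helper20.classInner_irr_ne hχ one_irr c3, add_zero]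
      · exact absurd (eq_alpha0 hinv h1) hα
    · exact c1 α hinv
  have hb0 : ∀ θ : Subgroup.zpowers X₀ →* ℂˣ, θ ≠ θ₀ → classInner χ (PI X₀ (al θ) θ) = 0 := by
    intro θ hθ
    by_cases hinv : θ⁻¹ = θ
    · by_cases h1 : θ = 1
      · subst h1
        apply inner_eq_zero_of_norm_two (PI_genChar _ _) _ one_irr St_irr hχ
          (fun hh => St_ne_one hh.symm) _ _ c3 c4
        · rw [inner_PI_PI h hodd (hal 1) (hal 1), if_pos rfl, if_pos hinv]; norm_num
        · rw [inner_one_PI h hodd, if_pos rfl]; norm_num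
        · rw [St, Helper20.classInner_sub_left, inner_RS_PI h hodd (hal 1), inner_one_PI h hodd,
            if_pos rfl]
          norm_num
      · exact absurd (eq_theta0 hθ₀ hinv h1) hθ
    · exact c2 θ hinv
  have hA : ∀ a : Fˣ, ∑ α : MulChar F ℂ, classInner χ (RS α) * α a =
      classInner χ (RS (alpha0 F)) * alpha0 F a := by
    intro a
    rw [Finset.sum_eq_single (alpha0 F)]
    · intro α _ hα
      rw [ha0 α hα, zero_mul]
    · intro hh; exact absurd (Finset.mem_univ _) hh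
  have hB : ∀ t : Subgroup.zpowers X₀, ∑ θ : Subgroup.zpowers X₀ →* ℂˣ,
      classInner χ (PI X₀ (al θ) θ) * ((θ t : ℂˣ) : ℂ) =
      classInner χ (PI X₀ (al θ₀) θ₀) * ((θ₀ t : ℂˣ) : ℂ) := by
    intro t
    rw [Finset.sum_eq_single θ₀]
    · intro θ _ hθ
      rw [hb0 θ hθ, zero_mul]
    · intro hh; exact absurd (Finset.mem_univ _) hh
  have V' := key _ _ hA hB
  have hda := V'.deg
  have hdz := V'.degz
  have hsq := irr_sq_negOne hχ
  obtain ⟨n, hn, hn1⟩ := Helper32.irr_apply_one hχ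
  have hta : classInner χ (RS (alpha0 F)) = 0 ∨ classInner χ (RS (alpha0 F)) = 1 ∨
      classInner χ (RS (alpha0 F)) = -1 := by
    apply inner_irr_of_norm_two (Helper32.genChar_of_char (RS_isCharacter _)) _ hχ
    rw [inner_RS_RS, if_pos rfl, if_pos alpha0_inv]; norm_num
  have htb : classInner χ (PI X₀ (al θ₀) θ₀) = 0 ∨ classInner χ (PI X₀ (al θ₀) θ₀) = 1 ∨
      classInner χ (PI X₀ (al θ₀) θ₀) = -1 := by
    apply inner_irr_of_norm_two (PI_genChar _ _) _ hχ
    rw [inner_PI_PI h hodd (hal θ₀) (hal θ₀), if_pos rfl, if_pos (theta0_inv hθ₀)]; norm_num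
  have hsign : alpha0 F (-1) * ((θ₀ (zz h) : ℂˣ) : ℂ) = -1 ∧ alpha0 F (-1) ^ 2 = 1 := by
    rw [alpha0_neg_one hodd, theta0_zz h hodd hθ₀]
    split_ifs <;> norm_num
  simp only [Units.val_one, map_one, Units.val_neg, mul_one] at hda hdz
  obtain ⟨hs1, hs2⟩ := hsign
  have hq1 := card_add_one_ne_zero (F := F)
  have hq2 := Helper44.card_F_sub_one_ne_zero (F := F)
  have hqpos : 2 ≤ Fintype.card F := Fintype.one_lt_card
  generalize classInner χ (RS (alpha0 F)) = a at *
  generalize classInner χ (PI X₀ (al θ₀) θ₀) = b at *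
  generalize alpha0 F (-1) = e at *
  generalize ((θ₀ (zz h) : ℂˣ) : ℂ) = w at *
  have hw : w = -e := by linear_combination e * hs1 - w * hs2
  have hab : a * b = 0 := by
    have h5 : (2 * χ negOne) ^ 2 = (2 * χ 1) ^ 2 := by rw [mul_pow, mul_pow, hsq]
    rw [hda, hdz, hw] at h5
    have h6 : ((Fintype.card F : ℂ) + 1) * ((Fintype.card F : ℂ) - 1) * (a * b) = 0 := by
      linear_combination (-1 / 4) * h5 +
        (1 / 4) * (((Fintype.card F : ℂ) + 1) * a - ((Fintype.card F : ℂ) - 1) * b) ^ 2 * hs2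
    exact (mul_eq_zero.1 h6).resolve_left (mul_ne_zero hq1 hq2)
  rw [hn1] at hda
  rcases hta with ha | ha | ha <;> rcases htb with hb | hb | hb <;> subst ha <;> subst hb
  · exfalso
    have : ((2 * n : ℕ) : ℂ) = 0 := by push_cast; linear_combination hda
    have : 2 * n = 0 := by exact_mod_cast this
    omega
  · right
    simpa using V'
  · exfalso
    have : ((2 * n + (Fintype.card F - 1) : ℕ) : ℂ) = 0 := by
      push_cast
      rw [card_cast_sub_one]
      linear_combination hda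
    have : 2 * n + (Fintype.card F - 1) = 0 := by exact_mod_cast this
    omega
  · left
    simpa using V'
  · norm_num at hab
  · norm_num at hab
  · exfalso
    have : ((2 * n + (Fintype.card F + 1) : ℕ) : ℂ) = 0 := by
      push_cast
      linear_combination hda
    have : 2 * n + (Fintype.card F + 1) = 0 := by exact_mod_cast this
    omega
  · norm_num at hab
  · norm_num at hab

/-- the master theorem together with the degrees (as natural numbers) -/
theorem master_nat (hodd : Fintype.card F % 2 = 1) (h : NS X₀)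
    {θ₀ : Subgroup.zpowers X₀ →* ℂˣ} (hθ₀ : θ₀ (gen X₀) = -1)
    (χ : SpecialLinearGroup (Fin 2) F → ℂ)
    (hχ : IsIrrCharacter (SpecialLinearGroup (Fin 2) F) χ) :
    ∃ n : ℕ, χ 1 = n ∧ (
    (n = 1 ∧ χ = 1 ∧ Vals h χ (fun _ => 1) (fun _ => -1)) ∨
    (n = Fintype.card F ∧ χ = St ∧ Vals h χ (fun _ => 1) (fun _ => 1)) ∨
    (n = Fintype.card F + 1 ∧ ∃ α₁ : MulChar F ℂ, α₁ ≠ α₁⁻¹ ∧ χ = RS α₁ ∧
      Vals h χ (fun a => α₁ a + α₁⁻¹ a) (fun _ => 0)) ∨
    (n + 1 = Fintype.card F ∧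
      ∃ (θ₁ : Subgroup.zpowers X₀ →* ℂˣ) (α₁ : MulChar F ℂ), θ₁⁻¹ ≠ θ₁ ∧ Compat h α₁ θ₁ ∧
      χ = PI X₀ α₁ θ₁ ∧
      Vals h χ (fun _ => 0) (fun t => ((θ₁ t : ℂˣ) : ℂ) + ((θ₁⁻¹ t : ℂˣ) : ℂ))) ∨
    (2 * n = Fintype.card F + 1 ∧ Vals h χ (fun a => alpha0 F a) (fun _ => 0)) ∨
    (2 * n + 1 = Fintype.card F ∧ Vals h χ (fun _ => 0) (fun t => ((θ₀ t : ℂˣ) : ℂ)))) := by
  obtain ⟨n, hn, hn1⟩ := Helper32.irr_apply_one hχ
  refine ⟨n, hn1, ?_⟩
  rcases master hodd h hθ₀ χ hχ with ⟨h1, V⟩ | ⟨h1, V⟩ | ⟨α₁, h1, h2, V⟩ | ⟨θ₁, α₁, h1, h2, h3, V⟩ |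
    V | V
  · left
    refine ⟨?_, h1, V⟩
    have := V.deg
    rw [hn1] at this
    have h5 : ((n : ℕ) : ℂ) = ((1 : ℕ) : ℂ) := by push_cast; linear_combination (1 / 2) * this
    exact_mod_cast h5
  · right; left
    refine ⟨?_, h1, V⟩
    have := V.deg
    rw [hn1] at this
    have h5 : ((n : ℕ) : ℂ) = ((Fintype.card F : ℕ) : ℂ) := by linear_combination (1 / 2) * this
    exact_mod_cast h5
  · right; right; left
    refine ⟨?_, α₁, h1, h2, V⟩
    have := V.deg
    rw [hn1] at this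
    simp only [Units.val_one, map_one] at this
    have h5 : ((n : ℕ) : ℂ) = ((Fintype.card F + 1 : ℕ) : ℂ) := by
      push_cast; linear_combination (1 / 2) * this
    exact_mod_cast h5
  · right; right; right; left
    refine ⟨?_, θ₁, α₁, h1, h2, h3, V⟩
    have := V.deg
    rw [hn1] at this
    simp only [Units.val_one, map_one] at this
    have h5 : ((n + 1 : ℕ) : ℂ) = ((Fintype.card F : ℕ) : ℂ) := by
      push_cast; linear_combination (1 / 2) * this
    exact_mod_cast h5
  · right; right; right; right; left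
    refine ⟨?_, V⟩
    have := V.deg
    rw [hn1] at this
    simp only [Units.val_one, map_one] at this
    have h5 : ((2 * n : ℕ) : ℂ) = ((Fintype.card F + 1 : ℕ) : ℂ) := by
      push_cast; linear_combination this
    exact_mod_cast h5
  · right; right; right; right; right
    refine ⟨?_, V⟩
    have := V.deg
    rw [hn1] at this
    simp only [Units.val_one, map_one] at this
    have h5 : ((2 * n + 1 : ℕ) : ℂ) = ((Fintype.card F : ℕ) : ℂ) := by
      push_cast; linear_combination this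
    exact_mod_cast h5

end sl2

end Cfsg.Agent.Lib.Helper46
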