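import Cfsg.Agent.Lib.Helper46.SL2CharMaster

set_option autoImplicit false
set_option linter.unusedSimpArgs false
set_option linter.unusedSectionVars false

namespace Cfsg.Agent.Lib.Helper46

open Matrix Cfsg Cfsg.Agent.Lib.Helper19
open scoped ComplexConjugate

section sl2

variable {F : Type*} [Field F]

theorem triSL_conj (a : Fˣ) (ha : a ≠ a⁻¹) (x : F) :
    ∃ P : SpecialLinearGroup (Fin 2) F,
      P * Helper44.triSL a 0 * P⁻¹ = Helper44.triSL a x := by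
  have hne : ((a⁻¹ : Fˣ) : F) - a ≠ 0 := sub_ne_zero.mpr (fun e => ha (Units.ext e.symm))
  refine ⟨Helper44.triSL 1 (x / (((a⁻¹ : Fˣ) : F) - a)), ?_⟩
  apply ext2 <;>
    simp only [mul_00, mul_01, mul_10, mul_11, inv_00, inv_01, inv_10, inv_11, triSL_00, triSL_01,
      triSL_10, triSL_11, inv_one, Units.val_one]
  · ring
  · field_simp
    ring
  · ring
  · ring

theorem eq_triSL (g : SpecialLinearGroup (Fin 2) F)
    (h10 : (g : Matrix (Fin 2) (Fin 2) F) 1 0 = 0) :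
    ∃ (a : Fˣ) (x : F), g = Helper44.triSL a x ∧ (a : F) = (g : Matrix (Fin 2) (Fin 2) F) 0 0 ∧
      x = (g : Matrix (Fin 2) (Fin 2) F) 0 1 ∧
      ((a⁻¹ : Fˣ) : F) = (g : Matrix (Fin 2) (Fin 2) F) 1 1 := by
  have hd := det2 g
  rw [h10, mul_zero, sub_zero] at hd
  have h0 : (g : Matrix (Fin 2) (Fin 2) F) 0 0 ≠ 0 := left_ne_zero_of_mul_eq_one hd
  have h11 : (((Units.mk0 _ h0)⁻¹ : Fˣ) : F) = (g : Matrix (Fin 2) (Fin 2) F) 1 1 := by
    rw [Units.val_inv_eq_inv_val, Units.val_mk0]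
    exact inv_eq_of_mul_eq_one_right hd
  refine ⟨Units.mk0 _ h0, (g : Matrix (Fin 2) (Fin 2) F) 0 1, ?_, rfl, rfl, h11⟩
  apply ext2
  · rw [triSL_00]; rfl
  · rw [triSL_01]
  · rw [triSL_10, h10]
  · rw [triSL_11, h11]

theorem units_ne_inv_of_sq_ne (a : Fˣ) (h : (a : F) ^ 2 ≠ 1) : a ≠ a⁻¹ := by
  intro hh
  apply h
  rw [eq_inv_iff_mul_eq_one] at hh
  rw [pow_two, ← Units.val_mul, hh, Units.val_one]

end sl2

section vals

variable {F : Type*} [Field F] [Fintype F] [DecidableEq F]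
variable {X₀ : SpecialLinearGroup (Fin 2) F}

theorem Vals.diag {h : NS X₀} {χ : SpecialLinearGroup (Fin 2) F → ℂ} {Af : Fˣ → ℂ}
    {Bf : Subgroup.zpowers X₀ → ℂ} (V : Vals h χ Af Bf)
    (hcf : IsClassFunction (SpecialLinearGroup (Fin 2) F) χ) (a : Fˣ) (ha : a ≠ a⁻¹) (x : F) :
    χ (Helper44.triSL a x) = Af a := by
  have h1 : ∀ y : F, χ (Helper44.triSL a y) = χ (Helper44.triSL a 0) := by
    intro y
    obtain ⟨P, hP⟩ := triSL_conj a ha y
    rw [← hP, hcf]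
  have h2 := V.split a
  simp only [h1, Finset.sum_const, Finset.card_univ, nsmul_eq_mul] at h2
  rw [h1 x]
  exact mul_left_cancel₀ Helper44.card_F_ne_zero h2

theorem Vals.elliptic {h : NS X₀} {χ : SpecialLinearGroup (Fin 2) F → ℂ} {Af : Fˣ → ℂ}
    {Bf : Subgroup.zpowers X₀ → ℂ} (V : Vals h χ Af Bf)
    (hcf : IsClassFunction (SpecialLinearGroup (Fin 2) F) χ) (g : SpecialLinearGroup (Fin 2) F)
    (hg : ∀ a : F, a ^ 2 - tr g * a + 1 ≠ 0) :
    ∃ (t : Subgroup.zpowers X₀) (y : SpecialLinearGroup (Fin 2) F),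
      y * g * y⁻¹ = t ∧ χ g = - Bf t := by
  obtain ⟨y, hy⟩ := h.hconj g hg
  refine ⟨⟨_, hy⟩, y, rfl, ?_⟩
  rw [← V.nonsplit ⟨_, hy⟩, hcf]
  simp only
  rw [conj_mem_center_iff]
  intro hc
  exact tr_sq_ne_of_nonsplit g hg (tr_sq_of_mem_center g hc)

end vals

end Cfsg.Agent.Lib.Helper46
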