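import Cfsg.Agent.Lib.Helper46.SL2Sylow2

set_option autoImplicit false
set_option linter.unusedSimpArgs false
set_option linter.unusedSectionVars false

namespace Cfsg.Agent.Lib.Helper46

open Matrix

theorem mem_normalizer_of_conj_mem {G : Type*} [Group G] (S : Subgroup G) [Finite S] (u : G)
    (h : ∀ s ∈ S, u * s * u⁻¹ ∈ S) : u ∈ Subgroup.normalizer (S : Set G) := by
  rw [Subgroup.mem_normalizer_iff]
  intro x
  refine ⟨h x, ?_⟩
  intro hx
  let f : S → S := fun s => ⟨u * s * u⁻¹, h s s.2⟩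
  have hinj : Function.Injective f := by
    intro s t hst
    have := congrArg Subtype.val hst
    simp only [f] at this
    exact Subtype.ext (mul_left_cancel (mul_right_cancel this))
  obtain ⟨s, hs⟩ := (Finite.injective_iff_surjective.1 hinj) ⟨_, hx⟩
  have := congrArg Subtype.val hs
  simp only [f] at this
  rw [← mul_left_cancel (mul_right_cancel this)]
  exact s.2

variable {F : Type*} [Field F]

theorem tr_zero_of_sq (X : SpecialLinearGroup (Fin 2) F) (h : X * X = negOne) : tr X = 0 := by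
  have hd := det2 X
  have e00 := congrArg (fun Z : SpecialLinearGroup (Fin 2) F => (Z : Matrix (Fin 2) (Fin 2) F) 0 0) h
  have e01 := congrArg (fun Z : SpecialLinearGroup (Fin 2) F => (Z : Matrix (Fin 2) (Fin 2) F) 0 1) h
  have e10 := congrArg (fun Z : SpecialLinearGroup (Fin 2) F => (Z : Matrix (Fin 2) (Fin 2) F) 1 0) h
  have e11 := congrArg (fun Z : SpecialLinearGroup (Fin 2) F => (Z : Matrix (Fin 2) (Fin 2) F) 1 1) h
  simp only [mul_00, mul_01, mul_10, mul_11, negOne, mk2_00, mk2_01, mk2_10, mk2_11] at e00 e01 e10 e11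
  rw [tr]
  by_contra hne
  have h00 : ((X : Matrix (Fin 2) (Fin 2) F) 0 0 + (X : Matrix (Fin 2) (Fin 2) F) 1 1) *
      (X : Matrix (Fin 2) (Fin 2) F) 0 0 = 0 := by linear_combination e00 + hd
  have h01 : ((X : Matrix (Fin 2) (Fin 2) F) 0 0 + (X : Matrix (Fin 2) (Fin 2) F) 1 1) *
      (X : Matrix (Fin 2) (Fin 2) F) 0 1 = 0 := by linear_combination e01
  have a00 := (mul_eq_zero.1 h00).resolve_left hne
  have a01 := (mul_eq_zero.1 h01).resolve_left hne
  rw [a00, a01] at hd
  simp at hd

theorem coe_negOne : ((negOne : SpecialLinearGroup (Fin 2) F) : Matrix (Fin 2) (Fin 2) F) = -1 := by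
  ext i j
  fin_cases i <;> fin_cases j <;> simp [negOne, mk2]

theorem det_one_add (X : SpecialLinearGroup (Fin 2) F) (h : tr X = 0) :
    (1 + (X : Matrix (Fin 2) (Fin 2) F)).det = 2 := by
  have hd := det2 X
  rw [tr] at h
  rw [Matrix.det_fin_two]
  simp
  linear_combination hd + h

/-- the element of order `3` (mod centre) normalising a quaternion subgroup -/
theorem exists_q8_normalizer (h2 : (2 : F) ≠ 0) (A W : SpecialLinearGroup (Fin 2) F)
    (hA : A * A = negOne) (hW : W * W = negOne) (hWA : W * A * W⁻¹ = A⁻¹) :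
    ∃ u : SpecialLinearGroup (Fin 2) F, u * A * u⁻¹ = W ∧ u * W * u⁻¹ = A * W := by
  have hA2 : (A : Matrix (Fin 2) (Fin 2) F) * (A : Matrix (Fin 2) (Fin 2) F) = -1 := by
    rw [← Matrix.SpecialLinearGroup.coe_mul, hA, coe_negOne]
  have hW2 : (W : Matrix (Fin 2) (Fin 2) F) * (W : Matrix (Fin 2) (Fin 2) F) = -1 := by
    rw [← Matrix.SpecialLinearGroup.coe_mul, hW, coe_negOne]
  have hAinv : A⁻¹ = negOne * A := by
    rw [inv_eq_iff_mul_eq_one, ← hA]
    have : A * (A * A * A) = (A * A) * (A * A) := by group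
    rw [this, hA]
    exact sq_eq_one_of_mem_center _ negOne_mem_center
  have hWAm : (W : Matrix (Fin 2) (Fin 2) F) * (A : Matrix (Fin 2) (Fin 2) F) =
      -((A : Matrix (Fin 2) (Fin 2) F) * (W : Matrix (Fin 2) (Fin 2) F)) := by
    have h1 : W * A = negOne * A * W := by
      rw [← hAinv]; exact mul_inv_eq_iff_eq_mul.1 hWA
    have := congrArg (fun Z : SpecialLinearGroup (Fin 2) F => (Z : Matrix (Fin 2) (Fin 2) F)) h1
    simp only [Matrix.SpecialLinearGroup.coe_mul, coe_negOne] at this
    rw [this]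
    simp
  set AM := (A : Matrix (Fin 2) (Fin 2) F) with hAM
  set WM := (W : Matrix (Fin 2) (Fin 2) F) with hWM
  have hdet : ((2⁻¹ : F) • ((1 + AM) * (1 + WM))).det = 1 := by
    rw [Matrix.det_smul, Matrix.det_mul, det_one_add A (tr_zero_of_sq A hA),
      det_one_add W (tr_zero_of_sq W hW)]
    simp
    field_simp
  obtain ⟨u, hu⟩ : ∃ u : SpecialLinearGroup (Fin 2) F,
      (u : Matrix (Fin 2) (Fin 2) F) = (2⁻¹ : F) • ((1 + AM) * (1 + WM)) := ⟨⟨_, hdet⟩, rfl⟩
  refine ⟨u, ?_, ?_⟩
  · rw [mul_inv_eq_iff_eq_mul]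
    apply Subtype.ext
    change (u : Matrix (Fin 2) (Fin 2) F) * AM = WM * (u : Matrix (Fin 2) (Fin 2) F)
    rw [hu, smul_mul_assoc, mul_smul_comm]
    congr 1
    have e1 : (1 + AM) * (1 + WM) * AM = AM + WM * AM + AM * AM + AM * (WM * AM) := by
      noncomm_ring
    have e2 : WM * ((1 + AM) * (1 + WM)) = WM + WM * WM + WM * AM + (WM * AM) * WM := by
      noncomm_ring
    have e3 : AM * -(AM * WM) = -((AM * AM) * WM) := by noncomm_ring
    have e4 : -(AM * WM) * WM = -(AM * (WM * WM)) := by noncomm_ring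
    rw [e1, e2, hWAm, hA2, hW2, e3, e4, hA2, hW2]
    noncomm_ring
  · rw [mul_inv_eq_iff_eq_mul]
    apply Subtype.ext
    change (u : Matrix (Fin 2) (Fin 2) F) * WM = AM * WM * (u : Matrix (Fin 2) (Fin 2) F)
    rw [hu, smul_mul_assoc, mul_smul_comm]
    congr 1
    have e1 : (1 + AM) * (1 + WM) * WM = WM + WM * WM + AM * WM + AM * (WM * WM) := by
      noncomm_ring
    have e2 : AM * WM * ((1 + AM) * (1 + WM)) =
        AM * WM + AM * (WM * WM) + AM * (WM * AM) + AM * (WM * AM) * WM := by
      noncomm_ring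
    have e3 : AM * -(AM * WM) = -((AM * AM) * WM) := by noncomm_ring
    rw [e1, e2, hWAm, hW2, e3, hA2]
    have e5 : -(-1 * WM) * WM = WM * WM := by noncomm_ring
    rw [e5, hW2]
    noncomm_ring

theorem negOne_comm (g : SpecialLinearGroup (Fin 2) F) : g * negOne = negOne * g :=
  Subgroup.mem_center_iff.1 negOne_mem_center g

theorem negOne_mul_self : (negOne : SpecialLinearGroup (Fin 2) F) * negOne = 1 :=
  sq_eq_one_of_mem_center _ negOne_mem_center

theorem inv_of_sq_negOne (X : SpecialLinearGroup (Fin 2) F) (h : X * X = negOne) :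
    X⁻¹ = negOne * X := by
  rw [inv_eq_iff_mul_eq_one, ← mul_assoc, negOne_comm, mul_assoc, h, negOne_mul_self]

theorem sylow2_normalizer_small [Fintype F] (hodd : Fintype.card F % 2 = 1)
    (S : Sylow 2 (SpecialLinearGroup (Fin 2) F)) (A W : SpecialLinearGroup (Fin 2) F)
    (hAS : A ∈ S) (hWS : W ∈ S) (hgen : ∀ s ∈ S, ∃ j : ℕ, s = A ^ j ∨ s = A ^ j * W)
    (hWA : W * A * W⁻¹ = A⁻¹) (hoA : orderOf A = 4)
    (hoW : ∀ j : ℕ, orderOf (A ^ j * W) = 4) :
    Nat.card (Subgroup.normalizer ((S : Subgroup (SpecialLinearGroup (Fin 2) F)) :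
      Set (SpecialLinearGroup (Fin 2) F))) = 3 * Nat.card S := by
  have h2 := two_ne_zero_of_odd (F := F) hodd
  have hfin := finite_SL2 (F := F)
  have h4 : 4 ∣ orderOf A := by rw [hoA]
  have hAc : A ∉ Subgroup.center (SpecialLinearGroup (Fin 2) F) := not_center_of_four_dvd A h4
  have sq_of_order4 : ∀ X : SpecialLinearGroup (Fin 2) F, orderOf X = 4 → X * X = negOne := by
    intro X hX
    have h4 : X ^ 4 = 1 := by rw [← hX]; exact pow_orderOf_eq_one X
    have h5 : (X * X) * (X * X) = 1 := by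
      rw [← h4]; simp only [pow_succ, pow_zero, one_mul, mul_assoc]
    rcases eq_one_or_negOne_of_mem_center _ (mem_center_of_sq_eq_one h2 _ h5) with h6 | h6
    · exfalso
      have : orderOf X ∣ 2 := orderOf_dvd_of_pow_eq_one (by rw [pow_two]; exact h6)
      rw [hX] at this
      norm_num at this
    · exact h6
  have hA2 := sq_of_order4 A hoA
  have hW2 : W * W = negOne := sq_of_order4 W (by have := hoW 0; simpa using this)
  obtain ⟨u, huA, huW⟩ := exists_q8_normalizer h2 A W hA2 hW2 hWA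
  have hne : A ≠ A⁻¹ := by
    intro hh
    apply hAc
    apply mem_center_of_sq_eq_one h2
    calc A * A = A * A⁻¹ := by rw [← hh]
      _ = 1 := mul_inv_cancel A
  have hWnc : ¬ (W * A = A * W) := by
    intro hh
    apply hne
    rw [← hWA, hh]; group
  have hSconj : ∀ s ∈ S, s * A * s⁻¹ = A ∨ s * A * s⁻¹ = A⁻¹ := by
    intro s hs
    obtain ⟨j, rfl | rfl⟩ := hgen s hs
    · left
      rw [← pow_succ, pow_succ', mul_assoc, mul_inv_cancel, mul_one]
    · right
      calc A ^ j * W * A * (A ^ j * W)⁻¹ = A ^ j * (W * A * W⁻¹) * (A ^ j)⁻¹ := by group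
        _ = A⁻¹ := by rw [hWA]; group
  have huN : u ∈ Subgroup.normalizer ((S : Subgroup (SpecialLinearGroup (Fin 2) F)) :
      Set (SpecialLinearGroup (Fin 2) F)) := by
    apply mem_normalizer_of_conj_mem
    intro s hs
    obtain ⟨j, rfl | rfl⟩ := hgen s hs
    · rw [← conj_pow, huA]
      exact Subgroup.pow_mem _ hWS j
    · have : u * (A ^ j * W) * u⁻¹ = (u * A * u⁻¹) ^ j * (u * W * u⁻¹) := by
        rw [conj_pow]; group
      rw [this, huA, huW]
      exact Subgroup.mul_mem _ (Subgroup.pow_mem _ hWS j) (Subgroup.mul_mem _ hAS hWS)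
  have cuW : u⁻¹ * W * u = A := by rw [← huA]; group
  have cuAW : u⁻¹ * (A * W) * u = W := by rw [← huW]; group
  have cuneg : ∀ X : SpecialLinearGroup (Fin 2) F, u⁻¹ * (negOne * X) * u = negOne * (u⁻¹ * X * u) := by
    intro X
    rw [← mul_assoc, negOne_comm u⁻¹]; group
  have hAinv := inv_of_sq_negOne A hA2
  have hK := mem_sylow_of_conj hodd S A W hAS hWS hgen hWA hAc
  have huiN := Subgroup.inv_mem _ huN
  have hdec : ∀ g ∈ Subgroup.normalizer ((S : Subgroup (SpecialLinearGroup (Fin 2) F)) :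
      Set (SpecialLinearGroup (Fin 2) F)), g ∈ S ∨ u⁻¹ * g ∈ S ∨ u⁻¹ * (u⁻¹ * g) ∈ S := by
    intro g hg
    have hmem : g * A * g⁻¹ ∈ S := (Subgroup.mem_normalizer_iff.1 hg A).1 hAS
    have c1 : ∀ Y : SpecialLinearGroup (Fin 2) F, g * A * g⁻¹ = Y →
        (u⁻¹ * g) * A * (u⁻¹ * g)⁻¹ = u⁻¹ * Y * u := by
      intro Y hY
      rw [← hY]; group
    have c2 : ∀ Y : SpecialLinearGroup (Fin 2) F, g * A * g⁻¹ = Y →
        (u⁻¹ * (u⁻¹ * g)) * A * (u⁻¹ * (u⁻¹ * g))⁻¹ = u⁻¹ * (u⁻¹ * Y * u) * u := by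
      intro Y hY
      rw [← hY]
      simp only [_root_.mul_inv_rev, inv_inv, mul_assoc]
    obtain ⟨j, hj | hj⟩ := hgen _ hmem
    · left
      apply hK g hg
      apply same_or_inv h2 A _ (tr_sq_ne_of_four_dvd hodd A h4) _ (tr_conj g A)
      rw [hj, ← pow_succ, ← pow_succ']
    · rw [← pow_mod_orderOf, hoA] at hj
      have hlt : j % 4 < 4 := Nat.mod_lt _ (by norm_num)
      generalize j % 4 = r at hj hlt
      interval_cases r
      · right; left
        apply hK _ (Subgroup.mul_mem _ huiN hg)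
        left
        rw [c1 _ hj, pow_zero, one_mul, cuW]
      · right; right
        apply hK _ (Subgroup.mul_mem _ huiN (Subgroup.mul_mem _ huiN hg))
        left
        rw [c2 _ hj, pow_one, cuAW, cuW]
      · right; left
        apply hK _ (Subgroup.mul_mem _ huiN hg)
        right
        rw [c1 _ hj, pow_two, hA2, cuneg, cuW, hAinv]
      · right; right
        apply hK _ (Subgroup.mul_mem _ huiN (Subgroup.mul_mem _ huiN hg))
        right
        have : A ^ 3 * W = negOne * (A * W) := by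
          rw [← hA2]; simp only [pow_succ, pow_zero, one_mul, mul_assoc]
        rw [c2 _ hj, this, cuneg, cuAW, cuneg, cuW, hAinv]
  have hu1 : u ∉ S := by
    intro hu
    rcases hSconj u hu with h | h
    · rw [huA] at h
      apply hWnc; rw [h]
    · rw [huA] at h
      apply hWnc; rw [h]; group
  have hu2 : u * u ∉ S := by
    intro hu
    have e : u * u * A * (u * u)⁻¹ = A * W := by
      calc u * u * A * (u * u)⁻¹ = u * (u * A * u⁻¹) * u⁻¹ := by group
        _ = A * W := by rw [huA, huW]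
    rcases hSconj _ hu with h | h
    · rw [e] at h
      have : W = 1 := by
        have := mul_left_cancel (h.trans (mul_one A).symm)
        exact this
      apply hWnc; rw [this]; group
    · rw [e] at h
      have : W = A⁻¹ * A⁻¹ := by
        calc W = A⁻¹ * (A * W) := by group
          _ = A⁻¹ * A⁻¹ := by rw [h]
      apply hWnc; rw [this]; group
  have hSN : ∀ s ∈ S, s ∈ Subgroup.normalizer ((S : Subgroup (SpecialLinearGroup (Fin 2) F)) :
      Set (SpecialLinearGroup (Fin 2) F)) := fun s hs => Subgroup.le_normalizer hs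
  let f : Fin 3 × S → Subgroup.normalizer ((S : Subgroup (SpecialLinearGroup (Fin 2) F)) :
      Set (SpecialLinearGroup (Fin 2) F)) := fun p =>
    ⟨u ^ (p.1 : ℕ) * (p.2 : SpecialLinearGroup (Fin 2) F),
      Subgroup.mul_mem _ (Subgroup.pow_mem _ huN _) (hSN _ p.2.2)⟩
  have hbij : Function.Bijective f := by
    constructor
    · rintro ⟨i, s, hs⟩ ⟨j, t, ht⟩ hst
      have hst' : u ^ (i : ℕ) * s = u ^ (j : ℕ) * t := congrArg Subtype.val hst
      have hij : i = j := by
        fin_cases i <;> fin_cases j <;> simp only [Fin.zero_eta, Fin.mk_one, Fin.reduceFinMk,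
          Fin.isValue, Fin.val_zero, Fin.val_one, Fin.val_two, pow_zero, pow_one, pow_two, one_mul]
          at hst' ⊢
        · exfalso; apply hu1
          have : u = s * t⁻¹ := by rw [hst']; group
          rw [this]; exact Subgroup.mul_mem _ hs (Subgroup.inv_mem _ ht)
        · exfalso; apply hu2
          have : u * u = s * t⁻¹ := by rw [hst']; group
          rw [this]; exact Subgroup.mul_mem _ hs (Subgroup.inv_mem _ ht)
        · exfalso; apply hu1
          have : u = t * s⁻¹ := by rw [← hst']; group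
          rw [this]; exact Subgroup.mul_mem _ ht (Subgroup.inv_mem _ hs)
        · exfalso; apply hu1
          have : u = s * t⁻¹ := by
            calc u = u⁻¹ * (u * u * t) * t⁻¹ := by group
              _ = u⁻¹ * (u * s) * t⁻¹ := by rw [hst']
              _ = s * t⁻¹ := by group
          rw [this]; exact Subgroup.mul_mem _ hs (Subgroup.inv_mem _ ht)
        · exfalso; apply hu2
          have : u * u = t * s⁻¹ := by rw [← hst']; group
          rw [this]; exact Subgroup.mul_mem _ ht (Subgroup.inv_mem _ hs)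
        · exfalso; apply hu1
          have : u = t * s⁻¹ := by
            calc u = u⁻¹ * (u * u * s) * s⁻¹ := by group
              _ = u⁻¹ * (u * t) * s⁻¹ := by rw [hst']
              _ = t * s⁻¹ := by group
          rw [this]; exact Subgroup.mul_mem _ ht (Subgroup.inv_mem _ hs)
      subst hij
      have := mul_left_cancel hst'
      subst this
      rfl
    · rintro ⟨g, hg⟩
      rcases hdec g hg with h | h | h
      · exact ⟨(0, ⟨g, h⟩), Subtype.ext (by simp [f])⟩
      · exact ⟨(1, ⟨_, h⟩), Subtype.ext (by simp [f])⟩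
      · exact ⟨(2, ⟨_, h⟩), Subtype.ext (by simp [f, pow_two, mul_assoc])⟩
  rw [← Nat.card_congr (Equiv.ofBijective f hbij), Nat.card_prod]
  simp

end Cfsg.Agent.Lib.Helper46
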