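import Cfsg.Agent.Lib.Helper46.SL2CharTorus
import Cfsg.Agent.Lib.Helper46.QuatPack

set_option autoImplicit false
set_option linter.unusedSimpArgs false

namespace Cfsg.Agent.Lib.Helper46

open Matrix

variable {F : Type*} [Field F]

/-- an element inverting `A` inverts the whole centraliser of `A` -/
theorem commutant_inv (A g W : SpecialLinearGroup (Fin 2) F)
    (hA : A ∉ Subgroup.center (SpecialLinearGroup (Fin 2) F)) (hg : g * A = A * g)
    (hW : W * A * W⁻¹ = A⁻¹) : W * g * W⁻¹ = g⁻¹ := by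
  obtain ⟨x, y, e00, e01, e10, e11⟩ := commutant A g hA hg
  have hWA : W * A = A⁻¹ * W := mul_inv_eq_iff_eq_mul.1 hW
  have f00 := congrArg (fun Z : SpecialLinearGroup (Fin 2) F => (Z : Matrix (Fin 2) (Fin 2) F) 0 0) hWA
  have f01 := congrArg (fun Z : SpecialLinearGroup (Fin 2) F => (Z : Matrix (Fin 2) (Fin 2) F) 0 1) hWA
  have f10 := congrArg (fun Z : SpecialLinearGroup (Fin 2) F => (Z : Matrix (Fin 2) (Fin 2) F) 1 0) hWA
  have f11 := congrArg (fun Z : SpecialLinearGroup (Fin 2) F => (Z : Matrix (Fin 2) (Fin 2) F) 1 1) hWA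
  simp only [mul_00, mul_01, mul_10, mul_11, inv_00, inv_01, inv_10, inv_11] at f00 f01 f10 f11
  rw [mul_inv_eq_iff_eq_mul]
  apply ext2 <;>
    simp only [mul_00, mul_01, mul_10, mul_11, inv_00, inv_01, inv_10, inv_11, e00, e01, e10, e11]
  · linear_combination y * f00
  · linear_combination y * f01
  · linear_combination y * f10
  · linear_combination y * f11

variable [Fintype F]

/-- a `2`-element of the normaliser of a Sylow `2`-subgroup lies in it -/
theorem mem_sylow_of_sq_mem {G : Type*} [Group G] (S : Sylow 2 G) (g : G)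
    (hg : g ∈ Subgroup.normalizer ((S : Subgroup G) : Set G)) (hgg : g * g ∈ S) : g ∈ S := by
  obtain ⟨m, hm⟩ := S.isPGroup' ⟨g * g, hgg⟩
  have hm' : (g * g) ^ (2 ^ m) = 1 := by
    have := congrArg Subtype.val hm
    simpa using this
  have h1 : g ^ (2 ^ (m + 1)) = 1 := by
    rw [pow_succ, mul_comm, pow_mul, pow_two]; exact hm'
  obtain ⟨i, -, hi⟩ := (Nat.dvd_prime_pow Nat.prime_two).1 (orderOf_dvd_of_pow_eq_one h1)
  have hp : IsPGroup 2 (Subgroup.zpowers g) := IsPGroup.of_card (n := i) (by rw [Nat.card_zpowers, hi])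
  have h2 := hp.inf_normalizer_sylow S
  have h3 : g ∈ Subgroup.zpowers g ⊓ Subgroup.normalizer (S : Set G) :=
    ⟨Subgroup.mem_zpowers g, hg⟩
  rw [h2] at h3
  exact h3.2

/-- Key lemma: elements of `N(S)` fixing `⟨A⟩` lie in `S` -/
theorem mem_sylow_of_conj (hodd : Fintype.card F % 2 = 1)
    (S : Sylow 2 (SpecialLinearGroup (Fin 2) F)) (A W : SpecialLinearGroup (Fin 2) F)
    (hAS : A ∈ S) (hWS : W ∈ S) (hgen : ∀ s ∈ S, ∃ j : ℕ, s = A ^ j ∨ s = A ^ j * W)
    (hWA : W * A * W⁻¹ = A⁻¹) (hAc : A ∉ Subgroup.center (SpecialLinearGroup (Fin 2) F))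
    (g : SpecialLinearGroup (Fin 2) F)
    (hg : g ∈ Subgroup.normalizer ((S : Subgroup (SpecialLinearGroup (Fin 2) F)) :
      Set (SpecialLinearGroup (Fin 2) F)))
    (hgA : g * A * g⁻¹ = A ∨ g * A * g⁻¹ = A⁻¹) : g ∈ S := by
  have h2 := two_ne_zero_of_odd (F := F) hodd
  have hne : A ≠ A⁻¹ := by
    intro hh
    apply hAc
    apply mem_center_of_sq_eq_one h2
    calc A * A = A * A⁻¹ := by rw [← hh]
      _ = 1 := mul_inv_cancel A
  have key : ∀ g ∈ Subgroup.normalizer ((S : Subgroup (SpecialLinearGroup (Fin 2) F)) :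
      Set (SpecialLinearGroup (Fin 2) F)), g * A * g⁻¹ = A → g ∈ S := by
    intro g hg hgA
    have hcomm : g * A = A * g := mul_inv_eq_iff_eq_mul.1 hgA
    have hinv := commutant_inv A g W hAc hcomm hWA
    have hmem : g * W * g⁻¹ ∈ S := (Subgroup.mem_normalizer_iff.1 hg W).1 hWS
    obtain ⟨j, hj | hj⟩ := hgen _ hmem
    · exfalso
      have hcj : g * A ^ j = A ^ j * g := (Commute.pow_right (show Commute g A from hcomm) j)
      have hW' : W = A ^ j := by
        calc W = g⁻¹ * (g * W * g⁻¹) * g := by group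
          _ = g⁻¹ * (A ^ j * g) := by rw [hj, mul_assoc]
          _ = g⁻¹ * (g * A ^ j) := by rw [hcj]
          _ = A ^ j := by group
      apply hne
      rw [← hWA, hW']
      have : A ^ j * A = A * A ^ j := by rw [← pow_succ, ← pow_succ']
      rw [this]; group
    · apply mem_sylow_of_sq_mem S g hg
      have h3 : W * g⁻¹ * W⁻¹ = g := by
        have := congrArg (·⁻¹) hinv
        simpa [mul_assoc] using this
      have h1 : g * W * g⁻¹ = g * g * W := by
        calc g * W * g⁻¹ = g * (W * g⁻¹ * W⁻¹) * W := by group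
          _ = g * g * W := by rw [h3]
      rw [h1] at hj
      rw [mul_right_cancel hj]
      exact Subgroup.pow_mem _ hAS j
  rcases hgA with h | h
  · exact key g hg h
  · have hWN : W ∈ Subgroup.normalizer ((S : Subgroup (SpecialLinearGroup (Fin 2) F)) :
      Set (SpecialLinearGroup (Fin 2) F)) := Subgroup.le_normalizer hWS
    have h4 : W * g ∈ S := by
      apply key _ (Subgroup.mul_mem _ hWN hg)
      calc W * g * A * (W * g)⁻¹ = W * (g * A * g⁻¹) * W⁻¹ := by group
        _ = (W * A * W⁻¹)⁻¹ := by rw [h]; group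
        _ = A := by rw [hWA, inv_inv]
    exact (Subgroup.mul_mem_cancel_left _ hWS).1 h4

theorem tr_sq_ne_of_four_dvd (hodd : Fintype.card F % 2 = 1) (A : SpecialLinearGroup (Fin 2) F)
    (h4 : 4 ∣ orderOf A) : tr A ^ 2 ≠ 4 := by
  intro h
  obtain ⟨p, hchar⟩ := CharP.exists F
  have hp : Fact p.Prime := ⟨CharP.char_is_prime F p⟩
  have h1 := pow_char_mem_center p A h
  have h3 := sq_eq_one_of_mem_center _ h1
  rw [← pow_add] at h3
  have h5 := h4.trans (orderOf_dvd_of_pow_eq_one h3)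
  have hpq : p ∣ Fintype.card F := by
    rw [← CharP.cast_eq_zero_iff F p]
    exact Nat.cast_card_eq_zero F
  have h6 : 2 ∣ p := by omega
  have := h6.trans hpq
  omega

theorem not_center_of_four_dvd (A : SpecialLinearGroup (Fin 2) F)
    (h4 : 4 ∣ orderOf A) : A ∉ Subgroup.center (SpecialLinearGroup (Fin 2) F) := by
  intro hh
  have h1 := sq_eq_one_of_mem_center A hh
  have h2 : orderOf A ∣ 2 := orderOf_dvd_of_pow_eq_one (by rw [pow_two]; exact h1)
  have := Nat.le_of_dvd (by norm_num) (h4.trans h2)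
  omega

theorem sylow2_centralizer (hodd : Fintype.card F % 2 = 1)
    (S : Sylow 2 (SpecialLinearGroup (Fin 2) F)) (A W : SpecialLinearGroup (Fin 2) F)
    (hAS : A ∈ S) (hWS : W ∈ S)
    (hWA : W * A * W⁻¹ = A⁻¹) (hAc : A ∉ Subgroup.center (SpecialLinearGroup (Fin 2) F)) :
    Subgroup.centralizer ((S : Subgroup (SpecialLinearGroup (Fin 2) F)) :
      Set (SpecialLinearGroup (Fin 2) F)) = Subgroup.center (SpecialLinearGroup (Fin 2) F) := by
  have h2 := two_ne_zero_of_odd (F := F) hodd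
  apply le_antisymm
  · intro g hg
    by_contra hgc
    have h1 : A * g = g * A := Subgroup.mem_centralizer_iff.1 hg A hAS
    have h3 : W * g = g * W := Subgroup.mem_centralizer_iff.1 hg W hWS
    have h4 := commute_trans g A W hgc h1 h3
    apply hAc
    apply mem_center_of_sq_eq_one h2
    have h5 : A = A⁻¹ := by
      rw [← hWA, h4]; group
    calc A * A = A * A⁻¹ := by rw [← h5]
      _ = 1 := mul_inv_cancel A
  · exact Subgroup.center_le_centralizer _

theorem orderOf_conj' {G : Type*} [Group G] (g a : G) : orderOf (g * a * g⁻¹) = orderOf a := by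
  have : orderOf (MulAut.conj g a) = orderOf a := MulEquiv.orderOf_eq _ _
  rwa [MulAut.conj_apply] at this

theorem sylow2_normalizer_big (hodd : Fintype.card F % 2 = 1)
    (S : Sylow 2 (SpecialLinearGroup (Fin 2) F)) (A W : SpecialLinearGroup (Fin 2) F)
    (hAS : A ∈ S) (hWS : W ∈ S) (hgen : ∀ s ∈ S, ∃ j : ℕ, s = A ^ j ∨ s = A ^ j * W)
    (hWA : W * A * W⁻¹ = A⁻¹) (h4 : 4 ∣ orderOf A) (h8 : orderOf A ≠ 4)
    (hoW : ∀ j : ℕ, orderOf (A ^ j * W) = 4) :
    Subgroup.normalizer ((S : Subgroup (SpecialLinearGroup (Fin 2) F)) :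
      Set (SpecialLinearGroup (Fin 2) F)) = (S : Subgroup (SpecialLinearGroup (Fin 2) F)) := by
  have h2 := two_ne_zero_of_odd (F := F) hodd
  apply le_antisymm _ Subgroup.le_normalizer
  intro g hg
  have hmem : g * A * g⁻¹ ∈ S := (Subgroup.mem_normalizer_iff.1 hg A).1 hAS
  apply mem_sylow_of_conj hodd S A W hAS hWS hgen hWA (not_center_of_four_dvd A h4) g hg
  obtain ⟨j, hj | hj⟩ := hgen _ hmem
  · apply same_or_inv h2 A _ (tr_sq_ne_of_four_dvd hodd A h4) _ (tr_conj g A)
    rw [hj, ← pow_succ, ← pow_succ']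
  · exfalso
    apply h8
    rw [← orderOf_conj' g A, hj, hoW]

end Cfsg.Agent.Lib.Helper46
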